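import Cfsg.Agent.SUTwoGen.Frame
import Cfsg.Agent.SUThreeUnipotent.Criterion

/-!
# From one root group and the negative cycle to the special unitary group
-/

set_option autoImplicit false

namespace CfsgLib.SUTwoGen

open Matrix CfsgLib.RepBounds.Unit CfsgLib.SUThreeUnipotent
open CfsgLib.OrthGen (negCycle negCycle_castSucc negCycle_last all_of_closed)

variable {F : Type*} [Field F] [Fintype F] {C : ConjField F} {ι : Type*} [Fintype ι] [DecidableEq ι]
variable {k : ℕ}

/-- The root group of two vectors of the frame lies in `H`. -/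
def Rel (Φ : PFrame C (k + 2) ι) (H : Subgroup (suG C ι))
    (c d : Fin (k + 2) ⊕ Fin (k + 2)) : Prop :=
  c ≠ d ∧ d ≠ c.swap ∧ ∀ r : F, MemE H (Φ.v c) (r • Φ.v d) 0

variable {Φ : PFrame C (k + 2) ι} {H : Subgroup (suG C ι)}

theorem Rel.symm {c d : Fin (k + 2) ⊕ Fin (k + 2)} (h : Rel Φ H c d) : Rel Φ H d c := by
  refine ⟨h.1.symm, fun e => h.2.1 (by rw [e, Sum.swap_swap]), fun r => ?_⟩
  have h' := (h.2.2 (-C.σ r)).swap
  rw [memE_smul, zero_mul, map_neg, C.invol] at h'
  exact h'.congr rfl (by module) rfl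

theorem Rel.comp_mem {c d e : Fin (k + 2) ⊕ Fin (k + 2)} (h : Rel Φ H c d) (h' : Rel Φ H d.swap e)
    (he : e ≠ c.swap) (r : F) : MemE H (Φ.v c) (r • Φ.v e) 0 := by
  obtain ⟨g, hg, hgE⟩ := h'.2.2 1
  have z1 : herm C (Φ.v c) (Φ.v d.swap) = 0 := by
    rw [Φ.vv, if_neg]
    intro e'
    exact h.1 (by simpa using (congrArg Sum.swap e').symm)
  have z2 : herm C (Φ.v d) (Φ.v e) = 0 := by rw [Φ.vv, if_neg h'.1.symm]
  have z3 : herm C (Φ.v c) (Φ.v e) = 0 := by rw [Φ.vv, if_neg he]
  have o1 : herm C (Φ.v d) (Φ.v d.swap) = 1 := by rw [Φ.vv, if_pos rfl]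
  have z4 : herm C (Φ.v d) (Φ.v c) = 0 := by
    rw [Φ.vv, if_neg]
    exact fun e' => h.2.1 (by rw [e', Sum.swap_swap])
  have e1 : app C g (Φ.v c) = Φ.v c := by
    rw [hgE, herm_smul_right, z1, z3]; simp
  have e2 : app C g (r • Φ.v d) = r • Φ.v d + r • Φ.v e := by
    rw [hgE, herm_smul_left, herm_smul_left, herm_smul_right, o1, z2, map_one]; simp
  have h1 : MemE H (Φ.v c) (r • Φ.v d + r • Φ.v e) 0 := ((h.2.2 r).conj hg).congr e1 e2 rfl
  refine (h.2.2 r).cancel h1 (Φ.self c) (by rw [herm_smul_left, z4, mul_zero])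
    (by rw [herm_smul_left, herm_comm_zero C z3, mul_zero])
    (by rw [herm_smul_left, herm_smul_right, herm_comm_zero C z2, mul_zero, mul_zero])
    (by rw [herm_smul_left, herm_smul_right, Φ.self, mul_zero, mul_zero])

theorem Rel.comp {c d e : Fin (k + 2) ⊕ Fin (k + 2)} (h : Rel Φ H c d) (h' : Rel Φ H d.swap e)
    (hce : c ≠ e) (he : e ≠ c.swap) : Rel Φ H c e := ⟨hce, he, h.comp_mem h' he⟩

theorem Rel.centre {c d : Fin (k + 2) ⊕ Fin (k + 2)} (h : Rel Φ H c d) (h' : Rel Φ H d.swap c) :
    Centre H (Φ.v c) := by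
  intro x hx
  obtain ⟨r, hr⟩ := C.exists_sub_eq hx
  have h1 := h.comp_mem h' (e := c) (by rcases c with c | c <;> simp) r
  rw [memE_self, zero_add, hr] at h1
  exact h1

theorem memE_move {g : suG C ι} (hg : g ∈ H) {c : Fin (k + 2) ⊕ Fin (k + 2)} {w : ι → F} {δ a : F}
    {u : ι → F} (hc : app C g (Φ.v c) = a • u) (h : MemE H (Φ.v c) w δ) :
    MemE H u (C.σ a • app C g w) (δ * (a * C.σ a)) := by
  have := h.conj hg
  rwa [hc, memE_smul] at this

theorem Rel.move {g : suG C ι} (hg : g ∈ H) {π : Equiv.Perm (Fin (k + 2) ⊕ Fin (k + 2))}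
    (hm : Φ.Mon g π) {c d : Fin (k + 2) ⊕ Fin (k + 2)} (h : Rel Φ H c d) : Rel Φ H (π c) (π d) := by
  obtain ⟨a, ha, ea⟩ := hm.1 c
  obtain ⟨b, hb, eb⟩ := hm.1 d
  have hne : π c ≠ π d := fun e => h.1 (π.injective e)
  refine ⟨hne, fun e => ?_, fun r => ?_⟩
  · have h0 : herm C (app C g (Φ.v c)) (app C g (Φ.v d)) = 0 := by
      rw [herm_app, Φ.vv, if_neg h.2.1]
    rw [ea, eb, herm_smul_left, herm_smul_right, Φ.vv, if_pos e, mul_one] at h0
    exact mul_ne_zero ha ((map_ne_zero C.σ).2 hb) h0
  · have h1 := memE_move hg ea (h.2.2 (r / (C.σ a * b)))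
    rw [app_smul, eb, smul_smul, smul_smul, zero_mul] at h1
    have hσa : C.σ a ≠ 0 := (map_ne_zero C.σ).2 ha
    exact h1.congr rfl (by congr 1; field_simp) rfl

/-- Centres move along `g`. -/
theorem centre_move {g : suG C ι} (hg : g ∈ H) {π : Equiv.Perm (Fin (k + 2) ⊕ Fin (k + 2))}
    (hm : Φ.Mon g π) {c : Fin (k + 2) ⊕ Fin (k + 2)} (h : Centre H (Φ.v c)) :
    Centre H (Φ.v (π c)) := by
  obtain ⟨a, ha, ea⟩ := hm.1 c
  have h1 := centre_smul (h.map hg) a⁻¹
  rwa [ea, smul_smul, inv_mul_cancel₀ ha, one_smul] at h1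

/-- One root group and the negative cycle give the group. -/
theorem eq_top_of_edge (hι : ¬ (Fintype.card ι = 3 ∧ C.q = 2)) {g : suG C ι} (hg : g ∈ H)
    (hm : Φ.Mon g (negCycle k)) (hedge : Rel Φ H (.inl 0) (.inr 1))
    (hx : Φ.x0 ∈ Submodule.span F {v | herm C v v = 0 ∧ Centre H v}) : H = ⊤ := by
  set L := Fin.last (k + 1) with hL
  have hef : ∀ i : Fin (k + 1), Rel Φ H (.inl i.castSucc) (.inr i.succ) := by
    intro i
    induction i using Fin.induction with
    | zero => simpa using hedge
    | succ i ih =>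
      have := ih.move hg hm
      rw [(negCycle_castSucc _).1, ← Fin.castSucc_succ, (negCycle_castSucc _).2] at this
      exact this
  have hwrap : Rel Φ H (.inl L) (.inl 0) := by
    have := (hef (Fin.last k)).move hg hm
    rwa [(negCycle_castSucc _).1, Fin.succ_last, (negCycle_last k).2, ← hL] at this
  have hfe : ∀ i : Fin (k + 1), Rel Φ H (.inr i.castSucc) (.inl i.succ) := by
    intro i
    induction i using Fin.induction with
    | zero =>
      have := hwrap.move hg hm
      rw [hL, (negCycle_last k).1, show (Sum.inl 0 : Fin (k + 2) ⊕ Fin (k + 2)) =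
        Sum.inl (0 : Fin (k + 1)).castSucc by simp, (negCycle_castSucc _).1] at this
      simpa using this
    | succ i ih =>
      have := ih.move hg hm
      rw [(negCycle_castSucc _).2, ← Fin.castSucc_succ, (negCycle_castSucc _).1] at this
      exact this
  have chain : ∀ s s' : Fin (k + 2) → Fin (k + 2) ⊕ Fin (k + 2),
      (∀ i, (s' i).swap = s i) → Function.Injective s → (∀ i j, s i ≠ s' j) →
      (∀ i : Fin (k + 1), Rel Φ H (s i.castSucc) (s' i.succ)) →
      ∀ i j, i < j → Rel Φ H (s i) (s' j) := by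
    intro s s' hsw hinj hne hrel i j
    induction j using Fin.induction with
    | zero => intro h; exact absurd h (Fin.not_lt_zero i)
    | succ j ih =>
      intro h
      rcases eq_or_lt_of_le (Fin.le_castSucc_iff.2 h) with e | e
      · exact e ▸ hrel j
      · refine (ih e).comp (by rw [hsw]; exact hrel j) (hne _ _) ?_
        intro e'
        have e'' := congrArg Sum.swap e'
        rw [hsw, Sum.swap_swap] at e''
        exact h.ne (hinj e'').symm
  have cef := chain Sum.inl Sum.inr (fun i => rfl) Sum.inl_injective (fun i j => by simp) hef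
  have cfe := chain Sum.inr Sum.inl (fun i => rfl) Sum.inr_injective (fun i j => by simp) hfe
  have hzero : ∀ j, j ≠ 0 → Rel Φ H (.inl 0) (.inl j) := by
    intro j hj
    rcases eq_or_ne j L with rfl | hjL
    · exact hwrap.symm
    · exact hwrap.symm.comp (cef j L (lt_of_le_of_ne (Fin.le_last j) hjL)).symm
        (by simp [Ne.symm hj]) (by simp)
  have hee : ∀ i j, i ≠ j → Rel Φ H (.inl i) (.inl j) := by
    intro i j hij
    rcases eq_or_ne i 0 with rfl | hi
    · exact hzero j hij.symm
    rcases eq_or_ne j 0 with rfl | hj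
    · exact (hzero i hi).symm
    exact (hzero i hi).symm.comp (cfe 0 j (Fin.pos_iff_ne_zero.2 hj)) (by simp [hij]) (by simp)
  have hcent : ∀ c, Centre H (Φ.v c) :=
    all_of_closed (S := {c | Centre H (Φ.v c)}) (fun c hc => centre_move hg hm hc)
      (c := .inl 0) (hedge.centre (hee 1 0 (by simp)))
  set W := Submodule.span F (Set.range fun i => Φ.v (.inl i))
  have hWmem : ∀ i, Φ.v (.inl i) ∈ W := fun i => Submodule.subset_span ⟨i, rfl⟩
  have hiso : ∀ {x y : ι → F}, x ∈ W → y ∈ W → herm C x y = 0 := by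
    intro x y hx hy
    induction hx using Submodule.span_induction with
    | mem x hx =>
      obtain ⟨i, rfl⟩ := hx
      induction hy using Submodule.span_induction with
      | mem y hy => obtain ⟨j, rfl⟩ := hy; rw [Φ.vv]; simp
      | zero => exact herm_zero_right C _
      | add a b _ _ ha hb => rw [herm_add_right, ha, hb, add_zero]
      | smul r a _ ha => rw [herm_smul_right, ha, mul_zero]
    | zero => exact herm_zero_left C _
    | add a b _ _ ha hb => rw [herm_add_left, ha, hb, add_zero]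
    | smul r a _ ha => rw [herm_smul_left, ha, mul_zero]
  have h1 : ∀ i, ∀ d ∈ W, ∀ r : F, MemE H (Φ.v (.inl i)) (r • d) 0 := by
    intro i d hd
    induction hd using Submodule.span_induction with
    | mem d hd =>
      obtain ⟨j, rfl⟩ := hd
      intro r
      rcases eq_or_ne i j with rfl | hij
      · rw [memE_self, zero_add]; exact hcent _ _ (C.sub_mem r)
      · exact (hee i j hij).2.2 r
    | zero => intro r; rw [smul_zero]; exact memE_zero H _
    | add x y hx hy hx' hy' =>
      intro r
      rw [smul_add]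
      exact (hx' r).add (hy' r) (hiso (hWmem i) (hWmem i))
        (hiso (W.smul_mem _ hx) (hWmem i)) (hiso (W.smul_mem _ hy) (hWmem i))
        (hiso (W.smul_mem _ hy) (W.smul_mem _ hx))
    | smul m x _ hx' => intro r; rw [smul_smul]; exact hx' _
  have h2 : ∀ a ∈ W, ∀ d ∈ W, MemE H a d 0 := by
    intro a ha
    induction ha using Submodule.span_induction with
    | mem a ha => obtain ⟨i, rfl⟩ := ha; intro d hd; simpa using h1 i d hd 1
    | zero => intro d _; exact memE_zero_left H _ _
    | add x y hx hy hx' hy' =>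
      intro d hd
      exact (hx' d hd).add_left (hy' d hd) (hiso hd hd) (hiso hx hd) (hiso hy hd) (hiso hy hx)
    | smul m x _ hx' => intro d hd; rw [memE_smul, zero_mul]; exact hx' _ (W.smul_mem _ hd)
  have h3 : ∀ a ∈ W, Centre H a := by
    intro a ha
    induction ha using Submodule.span_induction with
    | mem a ha => obtain ⟨i, rfl⟩ := ha; exact hcent _
    | zero => intro c _; exact memE_zero_left H _ _
    | add x y hx hy hx' hy' =>
      intro c hc
      exact memE_sum hc (hiso hx hx) (hiso hy hy) (hiso hx hy) (h2 x hx _ (W.smul_mem _ hy))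
        (hx' c hc) (hy' c hc)
    | smul m x _ hx' => exact centre_smul hx' m
  have hS : Setup H W := by
    refine ⟨fun a ha b hb => hiso ha hb, fun y hy h => ?_, fun y => ?_, fun a ha d hd c hc => ?_,
      eq_top_iff.2 ?_⟩
    · set w := ∑ i, herm C y (Φ.v (.inr i)) • Φ.v (.inl i) with hw
      have hwW : w ∈ W := W.sum_mem fun i _ => W.smul_mem _ (hWmem i)
      have e : y = w + herm C y Φ.x0 • Φ.x0 := by
        rw [← sub_eq_zero]
        have hwl : ∀ z : ι → F, herm C w z = ∑ i, herm C y (Φ.v (.inr i)) * herm C (Φ.v (.inl i)) z :=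
          fun z => by rw [hw, SUThreeUnipotent.herm_sum_left]; simp only [herm_smul_left]
        refine Φ.eq_zero ?_ ?_
        · rintro (j | j)
          · rw [herm_sub_left, herm_add_left, herm_smul_left, Φ.xv, hiso hwW (hWmem j),
              herm_comm_zero C (h _ (hWmem j))]
            simp
          · rw [herm_sub_left, herm_add_left, herm_smul_left, Φ.xv, hwl,
              Finset.sum_eq_single j (fun i _ hi => by rw [Φ.vv]; simp [Ne.symm hi]) (by simp), Φ.vv]
            simp
        · rw [herm_sub_left, herm_add_left, herm_smul_left, hwl, Finset.sum_eq_zero fun i _ => by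
            rw [Φ.vx, mul_zero]]
          rcases Φ.x_cases with h0 | h1
          · rw [h0, herm_zero_right]; simp
          · rw [h1]; simp
      rcases Φ.x_cases with h0 | h1
      · rw [e, h0, smul_zero, add_zero]; exact hwW
      have hwx : herm C w Φ.x0 = 0 := by
        rw [hw, SUThreeUnipotent.herm_sum_left]
        exact Finset.sum_eq_zero fun i _ => by rw [herm_smul_left, Φ.vx, mul_zero]
      have h2 : herm C y Φ.x0 * C.σ (herm C y Φ.x0) = 0 := by
        have e' : herm C y y = herm C (w + herm C y Φ.x0 • Φ.x0) (w + herm C y Φ.x0 • Φ.x0) := by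
          rw [← e]
        rw [hy, herm_add_left, herm_add_right, herm_add_right, hiso hwW hwW, herm_smul_right,
          herm_smul_right, herm_smul_left, herm_smul_left, hwx, herm_comm_zero C hwx, h1] at e'
        linear_combination -e'
      rcases mul_eq_zero.1 h2 with h3 | h3
      · rw [e, h3, zero_smul, add_zero]; exact hwW
      · rw [e, (map_eq_zero C.σ).1 h3, zero_smul, add_zero]; exact hwW
    · by_cases h0 : herm C (Φ.v (.inl 0)) y = 0
      · exact ⟨_, hWmem 0, Φ.ne_zero _, h0⟩
      refine ⟨herm C (Φ.v (.inl 1)) y • Φ.v (.inl 0) - herm C (Φ.v (.inl 0)) y • Φ.v (.inl 1),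
        W.sub_mem (W.smul_mem _ (hWmem 0)) (W.smul_mem _ (hWmem 1)), ?_, ?_⟩
      · intro h
        have h1 : herm C (herm C (Φ.v (.inl 1)) y • Φ.v (.inl 0) -
            herm C (Φ.v (.inl 0)) y • Φ.v (.inl 1)) (Φ.v (.inr 1)) = 0 := by rw [h, herm_zero_left]
        rw [herm_sub_left, herm_smul_left, herm_smul_left, Φ.vv, Φ.vv] at h1
        simp at h1
        exact h0 h1
      · rw [herm_sub_left, herm_smul_left, herm_smul_left]; ring
    · exact ((h2 a ha d hd).mul (h3 a ha c hc) (hiso ha ha) (hiso hd ha)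
        (herm_zero_left C _)).congr rfl (add_zero d) (by rw [herm_zero_left]; ring)
    · refine Φ.span.trans (Submodule.span_le.2 ?_)
      rintro _ (⟨c, rfl⟩ | h)
      · exact Submodule.subset_span ⟨Φ.self c, hcent c⟩
      · rw [Set.mem_singleton_iff.1 h]; exact hx
  exact hS.eq_top hι

end CfsgLib.SUTwoGen
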