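import Cfsg.Agent.SUTwoGen.Close
import Cfsg.Agent.SUThreeUnipotent.RankOneTwo

/-!
# The special unitary group in dimension at least four is generated by two elements

A torus element, and a root element times a negative cycle.
-/

set_option autoImplicit false

namespace CfsgLib.SUTwoGen

open Matrix CfsgLib.RepBounds.Unit CfsgLib.SUThreeUnipotent
open CfsgLib.OrthGen (negCycle negCycle_castSucc negCycle_last all_of_closed)

variable {F : Type*} [Field F] [Fintype F] {C : ConjField F} {ι : Type*} [Fintype ι] [DecidableEq ι]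
variable {k : ℕ}

theorem isE_add {a u : ι → F} (ha : herm C a a = 0) (hu : herm C u a = 0) (huu : herm C u u = 0)
    {g g' : suG C ι} {r r' : F} (h : IsE C g a (r • u) 0) (h' : IsE C g' a (r' • u) 0) :
    IsE C (g * g') a ((r + r') • u) 0 := by
  have h'' := h.mul h' ha (by rw [herm_smul_left, hu, mul_zero]) (by rw [herm_smul_left, hu, mul_zero])
  rwa [← add_smul, herm_smul_left, herm_smul_right, huu, mul_zero, mul_zero, add_zero, sub_zero] at h''

theorem isE_neg {a u : ι → F} (ha : herm C a a = 0) (hu : herm C u a = 0) (huu : herm C u u = 0)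
    {g : suG C ι} {r : F} (h : IsE C g a (r • u) 0) : IsE C g⁻¹ a ((-r) • u) 0 := by
  have h' := h.inv ha (by rw [herm_smul_left, hu, mul_zero])
    (by rw [herm_smul_left, herm_smul_right, huu, map_zero]; ring)
  rwa [← neg_smul, map_zero] at h'

theorem orderOf_gen (C : ConjField F) {γ : Fˣ} (hγ : ∀ z : F, z ≠ 0 → ∃ j : ℕ, z = (γ : F) ^ j) :
    orderOf γ = C.q ^ 2 - 1 := by
  rw [orderOf_eq_card_of_forall_mem_zpowers
    (fun z => by
      obtain ⟨j, hj⟩ := hγ (z : F) z.ne_zero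
      exact ⟨j, Units.ext (by simpa using hj.symm)⟩), Nat.card_units, Nat.card_eq_fintype_card, C.card]

theorem gen_pow_eq_one (C : ConjField F) {γ : Fˣ} (hγ : ∀ z : F, z ≠ 0 → ∃ j : ℕ, z = (γ : F) ^ j)
    {j : ℕ} (h : (γ : F) ^ j = 1) : C.q ^ 2 - 1 ∣ j := by
  rw [← orderOf_gen C hγ]
  rw [← Units.val_pow_eq_pow_val, Units.val_eq_one] at h
  exact orderOf_dvd_of_pow_eq_one h

theorem gen_not_fixed (C : ConjField F) {γ : Fˣ} (hγ : ∀ z : F, z ≠ 0 → ∃ j : ℕ, z = (γ : F) ^ j) :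
    C.σ (γ : F) ≠ γ := by
  intro h
  have h' : (γ : F) ^ (C.q - 1) = 1 := by
    refine mul_right_cancel₀ γ.ne_zero ?_
    rw [one_mul, ← pow_succ, Nat.sub_add_cancel (by have := C.two_le; omega), ← C.pow, h]
  have := C.two_le
  have hdvd := Nat.le_of_dvd (by omega) (gen_pow_eq_one C hγ h')
  obtain ⟨d, hd⟩ : ∃ d, C.q = d + 2 := ⟨C.q - 2, by omega⟩
  rw [hd, show (d + 2) ^ 2 - 1 = d * d + 4 * d + 3 by
    rw [show (d + 2) ^ 2 = d * d + 4 * d + 3 + 1 by ring, Nat.add_sub_cancel],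
    show d + 2 - 1 = d + 1 by omega] at hdvd
  omega

section setup

variable {Φ : PFrame C (k + 2) ι} {t g : suG C ι} {γ : F}
  (ht : (∀ c, app C t (Φ.v c) = torusVal C k γ c • Φ.v c) ∧ app C t Φ.x0 = Φ.x0)
  (hg : Φ.Mon g (negCycle k))

include hg ht in
theorem conj_torus (c : Fin (k + 2) ⊕ Fin (k + 2)) :
    app C (g * t * g⁻¹) (Φ.v (negCycle k c)) = torusVal C k γ c • Φ.v (negCycle k c) := by
  obtain ⟨a, ha, ea⟩ := hg.1 c
  have hi : app C g⁻¹ (Φ.v (negCycle k c)) = a⁻¹ • Φ.v c := by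
    refine app_inv_eq C ?_
    rw [app_smul, ea, smul_smul, inv_mul_cancel₀ ha, one_smul]
  rw [app_mul, app_mul, hi, app_smul, ht.1, smul_smul, app_smul, ea, smul_smul]
  congr 1; field_simp

include hg ht in
theorem conj_torus_x0 : app C (g * t * g⁻¹) Φ.x0 = Φ.x0 := by
  rw [app_mul, app_mul, app_inv_eq C hg.2, ht.2, hg.2]

include hg ht in
theorem torus_comm : Commute t (g * t * g⁻¹) := by
  refine Φ.ext_app (fun c => ?_) ?_
  · obtain ⟨c', rfl⟩ := (negCycle k).surjective c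
    have := conj_torus ht hg c'
    rw [app_mul C t (g * t * g⁻¹), app_mul C (g * t * g⁻¹) t, this, app_smul, ht.1, app_smul, this,
      smul_comm]
  · rw [app_mul C t (g * t * g⁻¹), app_mul C (g * t * g⁻¹) t, conj_torus_x0 ht hg, ht.2,
      conj_torus_x0 ht hg]

end setup

/-- The commutator used to start a root group. -/
theorem commutator_eq {G : Type*} [Group G] {t t' Y : G} (h : Commute t t') :
    t * (Y * t' * Y⁻¹) * t⁻¹ * (Y * t' * Y⁻¹)⁻¹ =
      t * Y * t⁻¹ * (t' * ((t * Y * t⁻¹)⁻¹ * Y) * t'⁻¹) * Y⁻¹ := by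
  calc t * (Y * t' * Y⁻¹) * t⁻¹ * (Y * t' * Y⁻¹)⁻¹
      = t * Y * t⁻¹ * ((t * t' * t⁻¹) * ((t * Y * t⁻¹)⁻¹ * Y) * t'⁻¹) * Y⁻¹ := by group
    _ = _ := by rw [h.eq, mul_inv_cancel_right]

/-- Even dimension. -/
theorem generate_even (hι : ¬ (Fintype.card ι = 3 ∧ C.q = 2)) (Φ : PFrame C (k + 2) ι)
    (hx0 : Φ.x0 = 0) : ∃ a b : suG C ι, Subgroup.closure ({a, b} : Set (suG C ι)) = ⊤ := by
  classical
  obtain ⟨γ, hγgen, -⟩ := exists_gen C
  have hγ : (γ : F) ≠ 0 := γ.ne_zero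
  have hσγ : C.σ (γ : F) ≠ 0 := (map_ne_zero C.σ).2 hγ
  obtain ⟨t, ht⟩ := Φ.exists_torus hγ
  obtain ⟨g, hg⟩ := Φ.exists_cycle
  set a := Φ.v (.inl 0) with ha
  set u := Φ.v (.inr 1) with hu
  have haa : herm C a a = 0 := Φ.self _
  have hua : herm C u a = 0 := by rw [hu, ha, Φ.vv]; simp
  have huu : herm C u u = 0 := Φ.self _
  have h01 : (Sum.inr 1 : Fin (k + 2) ⊕ Fin (k + 2)) ≠ (Sum.inl 0 : Fin (k + 2) ⊕ Fin (k + 2)).swap := by
    simp
  set Y := Φ.root (.inl 0) (.inr 1) 1 with hY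
  have hYE : IsE C Y a ((1 : F) • u) 0 := Φ.isE_root h01 1
  refine ⟨t, Y * g, ?_⟩
  set H := Subgroup.closure ({t, Y * g} : Set (suG C ι))
  have htH : t ∈ H := Subgroup.subset_closure (Or.inl rfl)
  have hbH : Y * g ∈ H := Subgroup.subset_closure (Or.inr rfl)
  -- the multipliers
  set ω := C.σ (γ : F) * torusVal C k (γ : F) (.inr 1) with hω
  have hωpow : ∀ j, ω ^ j = 1 → C.q ^ 2 - 1 ∣ 2 * j := by
    intro j hj
    have h' : (C.σ ω) ^ j = 1 := by rw [← map_pow, hj, map_one]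
    refine gen_pow_eq_one C hγgen ?_
    rw [hω, map_mul, C.invol, torusVal, if_neg (by simp)] at h'
    split_ifs at h' with hL
    · rw [C.invol, ← pow_two, ← pow_mul] at h'; exact h'
    · rw [map_one, mul_one] at h'; rw [mul_comm, pow_mul, h', one_pow]
  have hconjt : ∀ {Z : suG C ι} {r : F}, IsE C Z a (r • u) 0 →
      IsE C (t * Z * t⁻¹) a ((ω * r) • u) 0 := by
    intro Z r hZ
    have h := hZ.conj t
    rw [ha, hu, ht.1, app_smul, ht.1, isE_smul, zero_mul, smul_smul, smul_smul] at h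
    have e : torusVal C k (γ : F) (.inl 0) = γ := by simp [torusVal]
    rw [e] at h
    convert h using 2
    rw [hω]; ring
  have hconjt' : ∀ {Z : suG C ι} {r : F}, IsE C Z a (r • u) 0 →
      IsE C (g * t * g⁻¹ * Z * (g * t * g⁻¹)⁻¹) a (((γ : F) * (C.σ (γ : F))⁻¹ * r) • u) 0 := by
    intro Z r hZ
    have h := hZ.conj (g * t * g⁻¹)
    have e1 : app C (g * t * g⁻¹) a = C.σ (γ : F) • a := by
      have := conj_torus ht hg (.inr (Fin.last (k + 1)))
      rw [(negCycle_last k).2] at this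
      rw [ha, this]; simp [torusVal, Fin.ext_iff]
    have e2 : app C (g * t * g⁻¹) u = (C.σ (γ : F))⁻¹ • u := by
      have := conj_torus ht hg (.inr (0 : Fin (k + 1)).castSucc)
      rw [(negCycle_castSucc _).2, Fin.succ_zero_eq_one] at this
      rw [hu, this]; simp [torusVal]
    rw [e1, app_smul, e2, isE_smul, zero_mul, smul_smul, smul_smul, C.invol] at h
    convert h using 2
    ring
  -- one coefficient
  set c₀ := ω + (γ : F) * (C.σ (γ : F))⁻¹ * (-ω + 1) + -1 with hc₀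
  have hq2 : 3 ≤ C.q ^ 2 - 1 := by
    have := Nat.pow_le_pow_left C.two_le 2
    omega
  have hω1 : ω ≠ 1 := by
    intro h
    have h' := Nat.le_of_dvd (by omega) (hωpow 1 (by rw [h, one_pow]))
    omega
  have hc₀0 : c₀ ≠ 0 := by
    have e : c₀ = (ω - 1) * (1 - (γ : F) * (C.σ (γ : F))⁻¹) := by rw [hc₀]; ring
    rw [e]
    refine mul_ne_zero (sub_ne_zero.2 hω1) (sub_ne_zero.2 fun h => gen_not_fixed C hγgen ?_)
    field_simp at h
    linear_combination h
  let S : F → Prop := fun r => MemE H a (r • u) 0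
  have hSc : S c₀ := by
    have hz : Y * (g * t * g⁻¹) * Y⁻¹ ∈ H := by
      rw [show Y * (g * t * g⁻¹) * Y⁻¹ = Y * g * t * (Y * g)⁻¹ by group]
      exact mul_mem (mul_mem hbH htH) (inv_mem hbH)
    refine ⟨_, mul_mem (mul_mem (mul_mem htH hz) (inv_mem htH)) (inv_mem hz), ?_⟩
    rw [commutator_eq (torus_comm ht hg)]
    have hP := hconjt hYE
    have hR := hconjt' (isE_add haa hua huu (isE_neg haa hua huu hP) hYE)
    have := isE_add haa hua huu (isE_add haa hua huu hP hR) (isE_neg haa hua huu hYE)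
    convert this using 2
    rw [hc₀, mul_one]
  let B : Subring F :=
    { carrier := {τ | ∀ r, S r → S (τ * r)}
      zero_mem' := fun r _ => by
        show MemE H a ((0 * r) • u) 0
        rw [zero_mul, zero_smul]; exact memE_zero H _
      one_mem' := fun r h => by rwa [one_mul]
      add_mem' := fun {x y} kx ky r h => by
        show MemE H a (((x + y) * r) • u) 0
        obtain ⟨g1, m1, e1⟩ := kx r h
        obtain ⟨g2, m2, e2⟩ := ky r h
        rw [add_mul]
        exact ⟨_, mul_mem m1 m2, isE_add haa hua huu e1 e2⟩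
      neg_mem' := fun {x} kx r h => by
        show MemE H a (((-x) * r) • u) 0
        obtain ⟨g1, m1, e1⟩ := kx r h
        rw [neg_mul]
        exact ⟨_, inv_mem m1, isE_neg haa hua huu e1⟩
      mul_mem' := fun {x y} kx ky r h => by rw [mul_assoc]; exact kx _ (ky r h) }
  have hωB : ω ∈ B := by
    rintro r ⟨Z, hZ, hZE⟩
    exact ⟨_, mul_mem (mul_mem htH hZ) (inv_mem htH), hconjt hZE⟩
  have hω0 : ω ≠ 0 := mul_ne_zero hσγ (torusVal_ne_zero hγ _)
  have hall : ∀ r, S r := by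
    intro r
    have hB : ∀ w, w ∈ B := by
      rcases subring_or C B hωB hω0 with h | ⟨e, m, he, hm, hem, hz⟩
      · exact h
      exfalso
      have hle := Nat.le_of_dvd (by omega) (hωpow _ hz)
      have heq : e ≤ C.q :=
        (Nat.pow_le_pow_iff_left two_ne_zero).1 (hem ▸ Nat.pow_le_pow_right (by omega) hm)
      have := C.two_le
      obtain ⟨d, hd⟩ : ∃ d, C.q = d + 2 := ⟨C.q - 2, by omega⟩
      rw [hd, show (d + 2) ^ 2 - 1 = d * d + 4 * d + 3 by
        rw [show (d + 2) ^ 2 = d * d + 4 * d + 3 + 1 by ring, Nat.add_sub_cancel]] at hle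
      omega
    have := hB (r / c₀) c₀ hSc
    rwa [div_mul_cancel₀ _ hc₀0] at this
  have hgH : g ∈ H := by
    obtain ⟨Y', hY'H, hY'E⟩ := hall 1
    rw [← hYE.unique hY'E] at hY'H
    simpa using mul_mem (inv_mem hY'H) hbH
  exact eq_top_of_edge hι hgH hg ⟨by simp, h01, hall⟩ (by rw [hx0]; exact zero_mem _)

/-- Odd dimension. -/
theorem generate_odd (hι : ¬ (Fintype.card ι = 3 ∧ C.q = 2)) (Φ : PFrame C (k + 2) ι)
    (hx0 : herm C Φ.x0 Φ.x0 = 1) : ∃ a b : suG C ι, Subgroup.closure ({a, b} : Set (suG C ι)) = ⊤ := by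
  classical
  obtain ⟨γ, hγgen, -⟩ := exists_gen C
  have hγ : (γ : F) ≠ 0 := γ.ne_zero
  obtain ⟨t, ht⟩ := Φ.exists_torus hγ
  obtain ⟨g, hg⟩ := Φ.exists_cycle
  obtain ⟨t₁, ht₁⟩ := C.exists_trace_one
  have hsx : ∀ (c : Fin (k + 2) ⊕ Fin (k + 2)) (s : F), herm C (s • Φ.x0) (Φ.v c) = 0 := fun c s => by
    rw [herm_smul_left, Φ.xv, mul_zero]
  have hss : ∀ s s' : F, herm C (s • Φ.x0) (s' • Φ.x0) = s * C.σ s' := fun s s' => by
    rw [herm_smul_left, herm_smul_right, hx0, mul_one]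
  set a := Φ.v (.inl 0) with ha
  have haa : herm C a a = 0 := Φ.self _
  -- short root elements
  let IsS : suG C ι → F → Prop := fun Z s =>
    ∃ d, d + C.σ d + s * C.σ s = 0 ∧ IsE C Z a (s • Φ.x0) d
  have hmul : ∀ {Z Z' s s'}, IsS Z s → IsS Z' s' → IsS (Z * Z') (s + s') := by
    rintro Z Z' s s' ⟨d, hd, h⟩ ⟨d', hd', h'⟩
    have h'' := h.mul h' haa (hsx _ s) (hsx _ s')
    rw [← add_smul, hss] at h''
    refine ⟨_, ?_, h''⟩
    simp only [map_sub, map_add, map_mul, C.invol]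
    linear_combination hd + hd'
  have hinv : ∀ {Z s}, IsS Z s → IsS Z⁻¹ (-s) := by
    rintro Z s ⟨d, hd, h⟩
    have h' := h.inv haa (hsx _ s) (by rw [hss]; exact hd)
    rw [← neg_smul] at h'
    exact ⟨_, by rw [C.invol, map_neg]; linear_combination hd, h'⟩
  have hconj : ∀ {T : suG C ι} {l : F}, app C T a = l • a → app C T Φ.x0 = Φ.x0 →
      ∀ {Z s}, IsS Z s → IsS (T * Z * T⁻¹) (C.σ l * s) := by
    rintro T l hTa hTx Z s ⟨d, hd, h⟩
    have h' := h.conj T
    rw [hTa, app_smul, hTx, isE_smul, smul_smul] at h'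
    refine ⟨_, ?_, h'⟩
    simp only [map_mul, C.invol]
    linear_combination (l * C.σ l) * hd
  set b₀ := -t₁ with hb₀
  set X := eichler C a ((1 : F) • Φ.x0) b₀ with hX
  have hXE : IsE C X a ((1 : F) • Φ.x0) b₀ :=
    isE_eichler haa (hsx _ 1) (by rw [hss, hb₀, map_neg, map_one]; linear_combination -ht₁)
  have hXS : IsS X 1 := ⟨b₀, by rw [hb₀, map_neg, map_one]; linear_combination -ht₁, hXE⟩
  refine ⟨t, X * g, ?_⟩
  set H := Subgroup.closure ({t, X * g} : Set (suG C ι))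
  have htH : t ∈ H := Subgroup.subset_closure (Or.inl rfl)
  have hbH : X * g ∈ H := Subgroup.subset_closure (Or.inr rfl)
  have e0 : app C t a = (γ : F) • a := by rw [ha, ht.1]; simp [torusVal]
  have e1 : app C (g * t * g⁻¹) a = C.σ (γ : F) • a := by
    have := conj_torus ht hg (.inr (Fin.last (k + 1)))
    rw [(negCycle_last k).2] at this
    rw [ha, this]; simp [torusVal, Fin.ext_iff]
  let S : F → Prop := fun s => ∃ Z ∈ H, IsS Z s
  set s₀ := C.σ (γ : F) + C.σ (C.σ (γ : F)) * (-C.σ (γ : F) + 1) + -1 with hs₀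
  have hs₀0 : s₀ ≠ 0 := by
    have e : s₀ = -(((γ : F) - 1) * C.σ ((γ : F) - 1)) := by
      rw [hs₀, C.invol, map_sub, map_one]; ring
    rw [e]
    have h : (γ : F) - 1 ≠ 0 := sub_ne_zero.2 fun h => gen_not_fixed C hγgen (by rw [h, map_one])
    exact neg_ne_zero.2 (mul_ne_zero h ((map_ne_zero C.σ).2 h))
  have hSc : S s₀ := by
    have hz : X * (g * t * g⁻¹) * X⁻¹ ∈ H := by
      rw [show X * (g * t * g⁻¹) * X⁻¹ = X * g * t * (X * g)⁻¹ by group]
      exact mul_mem (mul_mem hbH htH) (inv_mem hbH)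
    refine ⟨_, mul_mem (mul_mem (mul_mem htH hz) (inv_mem htH)) (inv_mem hz), ?_⟩
    rw [commutator_eq (torus_comm ht hg)]
    have hP := hconj e0 ht.2 hXS
    have hR := hconj e1 (conj_torus_x0 ht hg) (hmul (hinv hP) hXS)
    have := hmul (hmul hP hR) (hinv hXS)
    convert this using 2
    simp only [hs₀, mul_one]
  have hSall : ∀ s, S s := by
    intro s
    by_cases hs : s = 0
    · subst hs
      exact ⟨1, one_mem H, 0, by simp, by
        intro x; rw [app_one, zero_smul, herm_zero_right]; simp⟩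
    obtain ⟨j, hj⟩ := hγgen (C.σ (s / s₀)) ((map_ne_zero C.σ).2 (div_ne_zero hs hs₀0))
    have hpow : ∀ i : ℕ, S ((C.σ (γ : F)) ^ i * s₀) := by
      intro i
      induction i with
      | zero => rwa [pow_zero, one_mul]
      | succ i ih =>
        obtain ⟨Z, hZ, hZS⟩ := ih
        refine ⟨_, mul_mem (mul_mem htH hZ) (inv_mem htH), ?_⟩
        rw [pow_succ', mul_assoc (C.σ (γ : F))]
        exact hconj e0 ht.2 hZS
    have := hpow j
    rwa [← map_pow, ← hj, C.invol, div_mul_cancel₀ _ hs₀0] at this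
  have hT : Centre H a := by
    intro c hc
    set r := -(c * t₁) with hr
    have hrc : C.σ r - r = c := by
      rw [hr, map_neg, map_mul, C.skew_eq hc]
      linear_combination c * ht₁
    obtain ⟨Z1, hZ1, d1, hd1, hE1⟩ := hSall 1
    obtain ⟨Z2, hZ2, d2, hd2, hE2⟩ := hSall r
    have h12 := hE1.mul hE2 haa (hsx _ _) (hsx _ _)
    have h21 := hE2.mul hE1 haa (hsx _ _) (hsx _ _)
    rw [← add_smul, hss] at h12 h21
    rw [map_one] at hd1
    have h3 := h21.inv haa (hsx _ _) (by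
      rw [hss]
      simp only [map_sub, map_add, map_mul, map_one, C.invol]
      linear_combination hd1 + hd2)
    have h4 := h12.mul h3 haa (hsx _ _) (by rw [herm_neg_left, hsx, neg_zero])
    refine ⟨_, mul_mem (mul_mem hZ1 hZ2) (inv_mem (mul_mem hZ2 hZ1)), ?_⟩
    rw [← neg_smul, ← add_smul, hss] at h4
    convert h4 using 2
    · rw [show (1 : F) + r + -(r + 1) = 0 by ring, zero_smul]
    · simp only [map_sub, map_add, map_mul, map_one, C.invol]
      linear_combination -hd1 - hd2 - hrc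
  have hU : ∀ s d, d + C.σ d + s * C.σ s = 0 → MemE H a (s • Φ.x0) d := by
    intro s d hd
    obtain ⟨Z, hZ, d0, hd0, hE⟩ := hSall s
    have hs : d - d0 ∈ C.skew := by
      rw [C.mem_skew, map_sub]; linear_combination hd - hd0
    exact (MemE.mul (show MemE H a (s • Φ.x0) d0 from ⟨Z, hZ, hE⟩) (hT _ hs) haa (hsx _ s)
      (herm_zero_left C _)).congr rfl (add_zero _) (by rw [herm_zero_left]; ring)
  have hgH : g ∈ H := by
    obtain ⟨Z, hZ, hE⟩ := hU 1 b₀ (by rw [hb₀, map_neg, map_one]; linear_combination -ht₁)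
    rw [← hXE.unique hE] at hZ
    simpa using mul_mem (inv_mem hZ) hbH
  have hUall : ∀ c s, ∃ d, d + C.σ d + s * C.σ s = 0 ∧ MemE H (Φ.v c) (s • Φ.x0) d := by
    refine all_of_closed (S := {c | ∀ s, ∃ d, d + C.σ d + s * C.σ s = 0 ∧
      MemE H (Φ.v c) (s • Φ.x0) d}) (fun c hc s => ?_) (c := .inl 0) fun s => ?_
    · obtain ⟨l, hl, el⟩ := hg.1 c
      have hσl : C.σ l ≠ 0 := (map_ne_zero C.σ).2 hl
      obtain ⟨d, hd, h⟩ := hc (s / C.σ l)
      have h' := memE_move hgH el h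
      rw [app_smul, hg.2, smul_smul, mul_div_cancel₀ _ hσl] at h'
      refine ⟨_, ?_, h'⟩
      simp only [map_mul, map_div₀, C.invol] at hd ⊢
      field_simp at hd
      linear_combination hd
    · exact ⟨-(s * C.σ s * t₁), by
        rw [map_neg, map_mul, map_mul, C.invol]; linear_combination -(s * C.σ s) * ht₁,
        hU s _ (by rw [map_neg, map_mul, map_mul, C.invol]; linear_combination -(s * C.σ s) * ht₁)⟩
  have hcent : ∀ c, Centre H (Φ.v c) :=
    all_of_closed (S := {c | Centre H (Φ.v c)}) (fun c hc => centre_move hgH hg hc) (c := .inl 0) hT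
  have hrel : Rel Φ H (.inl 0) (.inr 1) := by
    refine ⟨by simp, by simp, fun r => ?_⟩
    obtain ⟨d, hd, h⟩ := hUall (.inl 0) (-r)
    obtain ⟨d', hd', g', hg', hE'⟩ := hUall (.inr 1) 1
    have z1 : herm C a (Φ.v (.inr 1)) = 0 := by rw [ha, Φ.vv]; simp
    have ea : app C g' a = a := by
      rw [hE', herm_smul_right, ha, Φ.vx, z1]; simp
    have ex : app C g' ((-r) • Φ.x0) = (-r) • Φ.x0 + r • Φ.v (.inr 1) := by
      rw [hE', hsx, hss, map_one]
      simp
    have h1 := (h.conj hg').congr ea ex rfl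
    have h2 := h.inv haa (hsx _ _) (by rw [hss]; exact hd)
    have h3 := h1.mul h2 haa (by
      rw [herm_add_left, hsx, herm_smul_left, herm_comm_zero C z1]; ring)
      (by rw [herm_neg_left, hsx, neg_zero])
    refine h3.congr rfl (by abel) ?_
    rw [herm_neg_left, herm_add_right, hss, herm_smul_left, herm_smul_right, Φ.xv]
    linear_combination hd
  refine eq_top_of_edge hι hgH hg hrel ?_
  have hXH : X ∈ H := by
    have := mul_mem hbH (inv_mem hgH)
    simpa using this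
  have hfe : herm C (Φ.v (.inr 0)) a = 1 := by rw [ha, Φ.vv]; simp
  have e : app C X (Φ.v (.inr 0)) = Φ.v (.inr 0) + Φ.x0 + b₀ • a := by
    rw [hXE]; simp [hfe, Φ.vx, herm_smul_right]
  have hmem : ∀ y, herm C y y = 0 → Centre H y →
      y ∈ Submodule.span F {v | herm C v v = 0 ∧ Centre H v} := fun y h h' =>
    Submodule.subset_span ⟨h, h'⟩
  have h1 := hmem _ (by rw [herm_app, Φ.self]) ((hcent (.inr 0)).map hXH)
  rw [e] at h1
  have h2 := Submodule.sub_mem _ (Submodule.sub_mem _ h1 (hmem _ (Φ.self _) (hcent (.inr 0))))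
    (Submodule.smul_mem _ b₀ (hmem _ haa hT))
  convert h2 using 1
  abel

/-- `SU_N(q)`, `N ≥ 4`, is generated by two elements. -/
theorem generate_two (C : ConjField F) {N : ℕ} (hN : 4 ≤ N) :
    ∃ a b : suG C (Fin N), Subgroup.closure ({a, b} : Set (suG C (Fin N))) = ⊤ := by
  obtain ⟨k, hk⟩ : ∃ k, N = 2 * (k + 2) ∨ N = 2 * (k + 2) + 1 := ⟨N / 2 - 2, by omega⟩
  obtain ⟨Φ, h0, h1⟩ := exists_pframe C (k + 2) N (by omega) (by omega)
  have hι : ¬ (Fintype.card (Fin N) = 3 ∧ C.q = 2) := by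
    rintro ⟨h, -⟩; rw [Fintype.card_fin] at h; omega
  rcases hk with h | h
  · exact generate_even hι Φ (h0 h)
  · exact generate_odd hι Φ (h1 h)

end CfsgLib.SUTwoGen
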