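import Cfsg.Agent.SUThreeUnipotent.Unipotent
import Cfsg.Agent.OrthGen.Weyl

/-!
# Monomial elements of the special unitary group

`PFrame C n ι`: `n` hyperbolic pairs `v (inl i)`, `v (inr i)` and a vector `x0` (zero or of norm one) spanning
the space. Weyl elements, a torus element and an element inducing the negative cycle on the pairs.
-/

set_option autoImplicit false

namespace CfsgLib.SUTwoGen

open Matrix CfsgLib.RepBounds.Unit CfsgLib.SUThreeUnipotent
open CfsgLib.OrthGen (negCycle negCycle_castSucc negCycle_last all_of_closed)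

variable {F : Type*} [Field F] [Fintype F] (C : ConjField F) {ι : Type*} [Fintype ι] [DecidableEq ι]

/-- Hyperbolic pairs with a possibly vanishing vector of norm one. -/
structure PFrame (n : ℕ) (ι : Type*) [Fintype ι] [DecidableEq ι] where
  /-- the pairs -/
  v : Fin n ⊕ Fin n → ι → F
  /-- the remaining vector -/
  x0 : ι → F
  vv : ∀ c d, herm C (v c) (v d) = if d = c.swap then 1 else 0
  vx : ∀ c, herm C (v c) x0 = 0
  x_cases : x0 = 0 ∨ herm C x0 x0 = 1
  span : ⊤ ≤ Submodule.span F (Set.range v ∪ {x0})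

variable {C} {n : ℕ} (Φ : PFrame C n ι)

namespace PFrame

theorem self (c : Fin n ⊕ Fin n) : herm C (Φ.v c) (Φ.v c) = 0 := by
  rw [Φ.vv, if_neg]
  rcases c with c | c <;> simp

theorem xv (c : Fin n ⊕ Fin n) : herm C Φ.x0 (Φ.v c) = 0 := herm_comm_zero C (Φ.vx c)

theorem ne_zero (c : Fin n ⊕ Fin n) : Φ.v c ≠ 0 := by
  intro h
  have := Φ.vv c c.swap
  rw [h, herm_zero_left, if_pos rfl] at this
  exact zero_ne_one this

theorem eq_zero {x : ι → F} (hv : ∀ c, herm C x (Φ.v c) = 0) (hx : herm C x Φ.x0 = 0) : x = 0 := by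
  have hall : ∀ y : ι → F, herm C x y = 0 := by
    intro y
    induction Φ.span (Submodule.mem_top (x := y)) using Submodule.span_induction with
    | mem y hy =>
      rcases hy with ⟨c, rfl⟩ | hy
      · exact hv c
      · rw [Set.mem_singleton_iff.1 hy]; exact hx
    | zero => exact herm_zero_right C x
    | add a b _ _ ha hb => rw [herm_add_right, ha, hb, add_zero]
    | smul r a _ ha => rw [herm_smul_right, ha, mul_zero]
  by_contra h
  obtain ⟨y, hy⟩ := exists_herm_eq C h 1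
  rw [← conj_herm, hall y, map_zero] at hy
  exact zero_ne_one hy

theorem ext_app {g g' : suG C ι} (hv : ∀ c, app C g (Φ.v c) = app C g' (Φ.v c))
    (hx : app C g Φ.x0 = app C g' Φ.x0) : g = g' := by
  refine suG_ext C fun y => ?_
  induction Φ.span (Submodule.mem_top (x := y)) using Submodule.span_induction with
  | mem y hy =>
    rcases hy with ⟨c, rfl⟩ | hy
    · exact hv c
    · rw [Set.mem_singleton_iff.1 hy]; exact hx
  | zero => rw [app_zero, app_zero]
  | add a b _ _ ha hb => rw [app_add, app_add, ha, hb]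
  | smul r a _ ha => rw [app_smul, app_smul, ha]

/-- A root element. -/
noncomputable def root (c d : Fin n ⊕ Fin n) (r : F) : suG C ι := eichler C (Φ.v c) (r • Φ.v d) 0

theorem isE_root {c d : Fin n ⊕ Fin n} (h : d ≠ c.swap) (r : F) :
    IsE C (Φ.root c d r) (Φ.v c) (r • Φ.v d) 0 := by
  refine isE_eichler (Φ.self c) ?_ ?_
  · rw [herm_smul_left, Φ.vv, if_neg (fun e => h (by rw [e, Sum.swap_swap])), mul_zero]
  · rw [herm_smul_left, herm_smul_right, Φ.self, map_zero]; ring

/-- The Weyl element exchanging two pairs. -/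
noncomputable def weyl (i j : Fin n) (r : F) : suG C ι :=
  Φ.root (.inl i) (.inr j) r * Φ.root (.inr i) (.inl j) (C.σ r)⁻¹ * Φ.root (.inl i) (.inr j) r

theorem weyl_spec {i j : Fin n} (hij : i ≠ j) {r : F} (hr : r ≠ 0) :
    app C (Φ.weyl i j r) (Φ.v (.inl i)) = (C.σ r)⁻¹ • Φ.v (.inl j) ∧
    app C (Φ.weyl i j r) (Φ.v (.inl j)) = (-C.σ r) • Φ.v (.inl i) ∧
    app C (Φ.weyl i j r) (Φ.v (.inr i)) = r • Φ.v (.inr j) ∧
    app C (Φ.weyl i j r) (Φ.v (.inr j)) = (-r⁻¹) • Φ.v (.inr i) ∧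
    (∀ k, k ≠ i → k ≠ j → app C (Φ.weyl i j r) (Φ.v (.inl k)) = Φ.v (.inl k) ∧
      app C (Φ.weyl i j r) (Φ.v (.inr k)) = Φ.v (.inr k)) ∧
    app C (Φ.weyl i j r) Φ.x0 = Φ.x0 := by
  have hA := Φ.isE_root (c := .inl i) (d := .inr j) (by simp [hij.symm]) r
  have hB := Φ.isE_root (c := .inr i) (d := .inl j) (by simp [hij.symm]) (C.σ r)⁻¹
  have hσr : C.σ r ≠ 0 := (map_ne_zero C.σ).2 hr
  refine ⟨?_, ?_, ?_, ?_, fun k hki hkj => ⟨?_, ?_⟩, ?_⟩ <;>
    rw [weyl, app_mul, app_mul, hA, hB, hA] <;>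
    simp only [herm_add_left, herm_smul_left, herm_smul_right, Φ.vv, Φ.xv, Sum.swap_inl, Sum.swap_inr,
      Sum.inl.injEq, Sum.inr.injEq, reduceCtorEq, if_false, if_true, map_inv₀, C.invol, hij, hij.symm,
      mul_zero, mul_one, zero_mul, zero_smul, add_zero, zero_add, sub_zero, zero_sub, smul_zero]
  · match_scalars <;> field_simp <;> ring
  · match_scalars <;> field_simp <;> ring
  · match_scalars <;> field_simp <;> ring
  · match_scalars <;> field_simp <;> ring
  · simp [hki.symm, hkj.symm]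
  · simp [hki.symm, hkj.symm]

/-- `g` moves the pairs by `π` up to scalars and fixes `x0`. -/
def Mon (g : suG C ι) (π : Equiv.Perm (Fin n ⊕ Fin n)) : Prop :=
  (∀ c, ∃ a : F, a ≠ 0 ∧ app C g (Φ.v c) = a • Φ.v (π c)) ∧ app C g Φ.x0 = Φ.x0

theorem mon_one : Φ.Mon 1 1 := ⟨fun c => ⟨1, one_ne_zero, by rw [app_one, one_smul]; rfl⟩, app_one C _⟩

theorem mon_mul {g g' : suG C ι} {π π' : Equiv.Perm (Fin n ⊕ Fin n)} (h : Φ.Mon g π)
    (h' : Φ.Mon g' π') : Φ.Mon (g * g') (π * π') := by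
  refine ⟨fun c => ?_, by rw [app_mul, h'.2, h.2]⟩
  obtain ⟨a, ha, e⟩ := h'.1 c
  obtain ⟨b, hb, e'⟩ := h.1 (π' c)
  exact ⟨a * b, mul_ne_zero ha hb, by rw [app_mul, e, app_smul, e', smul_smul, Equiv.Perm.mul_apply]⟩

theorem weyl_mon {i j : Fin n} (hij : i ≠ j) {r : F} (hr : r ≠ 0) :
    Φ.Mon (Φ.weyl i j r) (Equiv.sumCongr (Equiv.swap i j) (Equiv.swap i j)) := by
  obtain ⟨h1, h2, h3, h4, h5, h6⟩ := Φ.weyl_spec hij hr
  have hσr : C.σ r ≠ 0 := (map_ne_zero C.σ).2 hr
  refine ⟨?_, h6⟩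
  rintro (k | k)
  · rcases eq_or_ne k i with rfl | hki
    · exact ⟨_, inv_ne_zero hσr, by rw [h1]; simp⟩
    rcases eq_or_ne k j with rfl | hkj
    · exact ⟨_, neg_ne_zero.2 hσr, by rw [h2]; simp⟩
    exact ⟨1, one_ne_zero, by rw [(h5 k hki hkj).1]; simp [Equiv.swap_apply_of_ne_of_ne hki hkj]⟩
  · rcases eq_or_ne k i with rfl | hki
    · exact ⟨_, hr, by rw [h3]; simp⟩
    rcases eq_or_ne k j with rfl | hkj
    · exact ⟨_, neg_ne_zero.2 (inv_ne_zero hr), by rw [h4]; simp⟩
    exact ⟨1, one_ne_zero, by rw [(h5 k hki hkj).2]; simp [Equiv.swap_apply_of_ne_of_ne hki hkj]⟩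

theorem exists_perm (π : Equiv.Perm (Fin n)) : ∃ g : suG C ι, Φ.Mon g (Equiv.sumCongr π π) := by
  induction π using Equiv.Perm.swap_induction_on with
  | one =>
    refine ⟨1, ?_⟩
    have : (Equiv.sumCongr (1 : Equiv.Perm (Fin n)) (1 : Equiv.Perm (Fin n))) = 1 :=
      Equiv.ext fun c => by rcases c with c | c <;> rfl
    rw [this]; exact Φ.mon_one
  | swap_mul f x y hxy ih =>
    obtain ⟨g, hg⟩ := ih
    refine ⟨Φ.weyl x y 1 * g, ?_⟩
    have : Equiv.sumCongr (Equiv.swap x y * f) (Equiv.swap x y * f) =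
        Equiv.sumCongr (Equiv.swap x y) (Equiv.swap x y) * Equiv.sumCongr f f :=
      Equiv.ext fun c => by rcases c with c | c <;> rfl
    rw [this]
    exact Φ.mon_mul (Φ.weyl_mon hxy one_ne_zero) hg

theorem exists_flip (i : Fin n) : ∃ g : suG C ι, Φ.Mon g (Equiv.swap (.inl i) (.inr i)) := by
  obtain ⟨c, hc, hc0⟩ := C.exists_skew_ne
  have hef : herm C (Φ.v (.inl i)) (Φ.v (.inr i)) = 1 := by rw [Φ.vv]; simp
  have hfe : herm C (Φ.v (.inr i)) (Φ.v (.inl i)) = 1 := by rw [Φ.vv]; simp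
  have hA : IsE C (eichler C (Φ.v (.inr i)) 0 c) (Φ.v (.inr i)) 0 c :=
    isE_eichler (Φ.self _) (herm_zero_left C _) (by rw [herm_zero_left, add_zero]; exact hc)
  have hB : IsE C (eichler C (Φ.v (.inl i)) 0 (-c⁻¹)) (Φ.v (.inl i)) 0 (-c⁻¹) :=
    isE_eichler (Φ.self _) (herm_zero_left C _)
      (by rw [herm_zero_left, add_zero]; exact neg_mem (ConjField.inv_mem C hc))
  have hfix : ∀ x, herm C x (Φ.v (.inl i)) = 0 → herm C x (Φ.v (.inr i)) = 0 →
      app C (eichler C (Φ.v (.inr i)) 0 c * eichler C (Φ.v (.inl i)) 0 (-c⁻¹) *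
        eichler C (Φ.v (.inr i)) 0 c) x = x := fun x he hf => by
    rw [app_mul, app_mul, hA, hB, hA]
    simp [herm_zero_right, he, hf]
  refine ⟨eichler C (Φ.v (.inr i)) 0 c * eichler C (Φ.v (.inl i)) 0 (-c⁻¹) *
    eichler C (Φ.v (.inr i)) 0 c, ?_, hfix _ (Φ.xv _) (Φ.xv _)⟩
  intro k
  rcases eq_or_ne k (.inl i) with rfl | h1
  · refine ⟨c, hc0, ?_⟩
    rw [Equiv.swap_apply_left, app_mul, app_mul, hA, hB, hA]
    simp only [herm_zero_right, herm_add_left, herm_smul_left, smul_zero, hef, hfe, Φ.self, sub_zero,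
      add_zero, mul_zero, mul_one, zero_smul, zero_add]
    match_scalars <;> field_simp <;> ring
  rcases eq_or_ne k (.inr i) with rfl | h2
  · refine ⟨-c⁻¹, neg_ne_zero.2 (inv_ne_zero hc0), ?_⟩
    rw [Equiv.swap_apply_right, app_mul, app_mul, hA, hB, hA]
    simp only [herm_zero_right, herm_add_left, herm_smul_left, smul_zero, hef, hfe, Φ.self, sub_zero,
      add_zero, mul_zero, mul_one, zero_smul, zero_add]
    match_scalars <;> field_simp <;> ring
  refine ⟨1, one_ne_zero, ?_⟩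
  rw [Equiv.swap_apply_of_ne_of_ne h1 h2, one_smul]
  refine hfix _ ?_ ?_ <;> rw [Φ.vv, if_neg] <;> rcases k with k | k <;> simp_all [eq_comm]

end PFrame

variable {k : ℕ} (Φ : PFrame C (k + 2) ι)

/-- The negative cycle. -/
theorem PFrame.exists_cycle : ∃ g : suG C ι, Φ.Mon g (negCycle k) := by
  obtain ⟨P, hP⟩ := Φ.exists_perm (finRotate (k + 2))
  obtain ⟨S, hS⟩ := Φ.exists_flip 0
  exact ⟨S * P, Φ.mon_mul hS hP⟩

/-- The eigenvalues of the torus element. -/
def torusVal (C : ConjField F) (k : ℕ) (γ : F) : Fin (k + 2) ⊕ Fin (k + 2) → F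
  | .inl a => if a = 0 then γ else if a = Fin.last (k + 1) then γ⁻¹ else 1
  | .inr a => if a = 0 then (C.σ γ)⁻¹ else if a = Fin.last (k + 1) then C.σ γ else 1

theorem torusVal_ne_zero {γ : F} (hγ : γ ≠ 0) (c : Fin (k + 2) ⊕ Fin (k + 2)) :
    torusVal C k γ c ≠ 0 := by
  rcases c with a | a <;> simp only [torusVal] <;> split_ifs <;> simp [hγ]

theorem PFrame.exists_torus {γ : F} (hγ : γ ≠ 0) : ∃ t : suG C ι,
    (∀ c, app C t (Φ.v c) = torusVal C k γ c • Φ.v c) ∧ app C t Φ.x0 = Φ.x0 := by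
  have h0L : (0 : Fin (k + 2)) ≠ Fin.last (k + 1) := by simp [Fin.ext_iff]
  have hr : -C.σ γ ≠ 0 := neg_ne_zero.2 ((map_ne_zero C.σ).2 hγ)
  obtain ⟨a1, a2, a3, a4, a5, a6⟩ := Φ.weyl_spec h0L hr
  obtain ⟨b1, b2, b3, b4, b5, b6⟩ := Φ.weyl_spec h0L (one_ne_zero (α := F))
  refine ⟨Φ.weyl 0 (Fin.last (k + 1)) (-C.σ γ) * Φ.weyl 0 (Fin.last (k + 1)) 1, ?_,
    by rw [app_mul, b6, a6]⟩
  rintro (a | a) <;> rw [app_mul]
  · rcases eq_or_ne a 0 with rfl | a0
    · rw [b1, app_smul, a2, smul_smul]; simp [torusVal, C.invol]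
    rcases eq_or_ne a (Fin.last (k + 1)) with rfl | aL
    · rw [b2, app_smul, a1, smul_smul]; simp [torusVal, a0, C.invol, inv_neg]
    rw [(b5 a a0 aL).1, (a5 a a0 aL).1]; simp [torusVal, a0, aL]
  · rcases eq_or_ne a 0 with rfl | a0
    · rw [b3, app_smul, a4, smul_smul]; simp [torusVal, inv_neg]
    rcases eq_or_ne a (Fin.last (k + 1)) with rfl | aL
    · rw [b4, app_smul, a3, smul_smul]; simp [torusVal, a0]
    rw [(b5 a a0 aL).2, (a5 a a0 aL).2]; simp [torusVal, a0, aL]

/-! ### Existence -/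

/-- Frames with `n` pairs exist in dimensions `2 n` and `2 n + 1`. -/
theorem exists_pframe (C : ConjField F) (n N : ℕ) (hN : 2 * n ≤ N) (hN' : N ≤ 2 * n + 1) :
    ∃ Φ : PFrame C n (Fin N), (N = 2 * n → Φ.x0 = 0) ∧ (N = 2 * n + 1 → herm C Φ.x0 Φ.x0 = 1) := by
  obtain ⟨α, hα⟩ := C.exists_norm_neg_one
  obtain ⟨t, ht⟩ := C.exists_trace_one
  have hα0 : α ≠ 0 := by rintro rfl; simp at hα
  let e : Fin n → Fin N → F := fun i => stdVec N (2 * i) + α • stdVec N (2 * i + 1)
  let f : Fin n → Fin N → F := fun i => stdVec N (2 * i) + (-t) • e i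
  have hee : ∀ i j, herm C (e i) (e j) = 0 := fun i j => by
    simp only [e, herm_add_left, herm_add_right, herm_smul_left, herm_smul_right,
      herm_stdVec (C := C) (show 2 * (i : ℕ) < N by omega) (show 2 * (j : ℕ) < N by omega),
      herm_stdVec (C := C) (show 2 * (i : ℕ) < N by omega) (show 2 * (j : ℕ) + 1 < N by omega),
      herm_stdVec (C := C) (show 2 * (i : ℕ) + 1 < N by omega) (show 2 * (j : ℕ) < N by omega),
      herm_stdVec (C := C) (show 2 * (i : ℕ) + 1 < N by omega) (show 2 * (j : ℕ) + 1 < N by omega)]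
    rcases eq_or_ne i j with rfl | hij
    · rw [if_pos rfl, if_neg (by omega), if_neg (by omega), if_pos rfl]
      linear_combination hα
    · have := Fin.val_ne_of_ne hij
      rw [if_neg (by omega), if_neg (by omega), if_neg (by omega), if_neg (by omega)]
      ring
  have heε : ∀ i j : Fin n, herm C (e i) (stdVec N (2 * j)) = if i = j then 1 else 0 := fun i j => by
    simp only [e, herm_add_left, herm_smul_left,
      herm_stdVec (C := C) (show 2 * (i : ℕ) < N by omega) (show 2 * (j : ℕ) < N by omega),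
      herm_stdVec (C := C) (show 2 * (i : ℕ) + 1 < N by omega) (show 2 * (j : ℕ) < N by omega)]
    rw [if_neg (show ¬ 2 * (i : ℕ) + 1 = 2 * j by omega), mul_zero, add_zero]
    by_cases h : i = j
    · rw [if_pos h, if_pos (by rw [h])]
    · have := Fin.val_ne_of_ne h
      rw [if_neg h, if_neg (by omega)]
  have hef : ∀ i j, herm C (e i) (f j) = if i = j then 1 else 0 := fun i j => by
    simp only [f, herm_add_right, herm_smul_right, hee i j, heε i j, mul_zero, add_zero]
  have hff : ∀ i j, herm C (f i) (f j) = 0 := fun i j => by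
    simp only [f, herm_add_left, herm_add_right, herm_smul_left, herm_smul_right, hee i j, heε i j,
      herm_stdVec (C := C) (show 2 * (i : ℕ) < N by omega) (show 2 * (j : ℕ) < N by omega)]
    rw [← conj_herm C (e j) (stdVec N (2 * i)), heε j i]
    rcases eq_or_ne i j with rfl | hij
    · simp only [if_true, map_one, map_neg]
      linear_combination -ht
    · have := Fin.val_ne_of_ne hij
      rw [if_neg hij.symm, if_neg hij, if_neg (by omega), map_zero]
      ring
  have hx : ∀ j : ℕ, j < 2 * n → herm C (stdVec N j) (stdVec N (2 * n)) = 0 := fun j hj => by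
    by_cases h : 2 * n < N
    · rw [herm_stdVec (by omega) h, if_neg (by omega)]
    · rw [show (stdVec N (2 * n) : Fin N → F) = 0 from dif_neg h, herm_zero_right]
  have hex : ∀ i : Fin n, herm C (e i) (stdVec N (2 * n)) = 0 := fun i => by
    simp only [e, herm_add_left, herm_smul_left, hx _ (show 2 * (i : ℕ) < 2 * n by omega),
      hx _ (show 2 * (i : ℕ) + 1 < 2 * n by omega), mul_zero, add_zero]
  refine ⟨⟨Sum.elim e f, stdVec N (2 * n), ?_, ?_, ?_, ?_⟩, ?_, ?_⟩
  · rintro (i | i) (j | j)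
    · simpa using hee i j
    · simpa [eq_comm] using hef i j
    · show herm C (f i) (e j) = _
      rw [← conj_herm, hef j i]
      by_cases h : j = i <;> simp [h]
    · simpa using hff i j
  · rintro (i | i)
    · exact hex i
    · show herm C (f i) _ = 0
      simp only [f, herm_add_left, herm_smul_left, hex i, hx _ (show 2 * (i : ℕ) < 2 * n by omega),
        mul_zero, add_zero]
  · by_cases h : 2 * n < N
    · exact Or.inr (by rw [herm_stdVec h h, if_pos rfl])
    · exact Or.inl (dif_neg h)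
  · set S := Submodule.span F (Set.range (Sum.elim e f) ∪ {stdVec N (2 * n)})
    have hev : ∀ i : Fin n, stdVec N (2 * i) ∈ S := fun i => by
      have h1 : f i + t • e i ∈ S := S.add_mem
        (Submodule.subset_span (Or.inl ⟨.inr i, rfl⟩))
        (S.smul_mem t (Submodule.subset_span (Or.inl ⟨.inl i, rfl⟩)))
      simpa [f, add_assoc, ← add_smul] using h1
    have hbase : ∀ j, j < N → stdVec N j ∈ S := fun j hj => by
      rcases Nat.even_or_odd' j with ⟨i, rfl | rfl⟩
      · rcases Nat.lt_or_ge i n with h | h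
        · exact hev ⟨i, h⟩
        · rw [show i = n by omega]
          exact Submodule.subset_span (Or.inr rfl)
      · have hi : i < n := by omega
        have h1 : α⁻¹ • (e ⟨i, hi⟩ - stdVec N (2 * i)) ∈ S := S.smul_mem _
          (S.sub_mem (Submodule.subset_span (Or.inl ⟨.inl ⟨i, hi⟩, rfl⟩)) (hev ⟨i, hi⟩))
        simpa [e, smul_smul, inv_mul_cancel₀ hα0] using h1
    intro x _
    rw [pi_eq_sum_univ' x]
    refine S.sum_mem fun i _ => S.smul_mem _ ?_
    have := hbase i i.2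
    simp only [stdVec, dif_pos i.2] at this
    simpa using this
  · intro h; exact dif_neg (by omega)
  · intro h
    show herm C (stdVec N (2 * n)) (stdVec N (2 * n)) = 1
    rw [herm_stdVec (by omega) (by omega), if_pos rfl]

end CfsgLib.SUTwoGen
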